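import Mathlib.RingTheory.Ideal.Pure
import Mathlib.RingTheory.Spectrum.Prime.Topology
import Mathlib.RingTheory.Localization.Away.Basic

/-!
# The pure ideal of a closed subset of the spectrum stable under generalization
-/

set_option autoImplicit false

universe u

open PrimeSpectrum Topology

namespace GrothLib.PureIdeal9

variable {A : Type u} [CommRing A]

/-- Elements vanishing in the local rings at the points of `T`. -/
def K (T : Set (PrimeSpectrum A)) : Ideal A where
  carrier := {a | ∀ p ∈ T, ∃ s ∉ p.asIdeal, s * a = 0}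
  zero_mem' := fun p _ => ⟨1, p.2.one_notMem, mul_zero 1⟩
  add_mem' := by
    intro a b ha hb p hp
    obtain ⟨s, hs, hsa⟩ := ha p hp
    obtain ⟨t, ht, htb⟩ := hb p hp
    refine ⟨s * t, fun h => (p.2.mem_or_mem h).elim hs ht, ?_⟩
    linear_combination t * hsa + s * htb
  smul_mem' := by
    intro c a ha p hp
    obtain ⟨s, hs, hsa⟩ := ha p hp
    exact ⟨s, hs, by rw [smul_eq_mul]; linear_combination c * hsa⟩

theorem mem_K {T : Set (PrimeSpectrum A)} {a : A} : a ∈ K T ↔ ∀ p ∈ T, ∃ s ∉ p.asIdeal, s * a = 0 := Iff.rfl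

theorem subset_zeroLocus (T : Set (PrimeSpectrum A)) : T ⊆ zeroLocus (K T : Set A) := fun p hp a ha => by
  obtain ⟨s, hs, hsa⟩ := ha p hp
  exact (p.2.mem_or_mem (hsa ▸ zero_mem p.asIdeal)).resolve_left hs

variable {T : Set (PrimeSpectrum A)}

/-- Separation of a point outside `T` from a point of `T`. -/
theorem exists_mul_eq_zero (hT : IsClosed T) (hgen : StableUnderGeneralization T) {p q : PrimeSpectrum A}
    (hp : p ∈ T) (hq : q ∉ T) : ∃ s ∉ p.asIdeal, ∃ t ∉ q.asIdeal, s * t = 0 := by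
  by_contra hc
  push Not at hc
  obtain ⟨r, hr, -, hrd⟩ := Ideal.exists_le_prime_disjoint (⊥ : Ideal A)
    (p.asIdeal.primeCompl ⊔ q.asIdeal.primeCompl) (by
      rw [Set.disjoint_left]
      intro x hx hx'
      obtain ⟨s, hs, t, ht, rfl⟩ := Submonoid.mem_sup.1 hx'
      exact hc s hs t ht ((Submodule.mem_bot A).1 hx))
  have hrp : r ≤ p.asIdeal := fun x hx => by
    by_contra h
    exact Set.disjoint_left.1 hrd hx (le_sup_left (b := q.asIdeal.primeCompl) (show x ∈ p.asIdeal.primeCompl from h))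
  have hrq : r ≤ q.asIdeal := fun x hx => by
    by_contra h
    exact Set.disjoint_left.1 hrd hx (le_sup_right (a := p.asIdeal.primeCompl) (show x ∈ q.asIdeal.primeCompl from h))
  have hR : (⟨r, hr⟩ : PrimeSpectrum A) ∈ T := hgen ((le_iff_specializes _ p).1 hrp) hp
  exact hq (hT.stableUnderSpecialization ((le_iff_specializes _ q).1 hrq) hR)

theorem zeroLocus_K (hT : IsClosed T) (hgen : StableUnderGeneralization T) : zeroLocus (K T : Set A) = T := by
  refine subset_antisymm (fun q hq => ?_) (subset_zeroLocus T)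
  by_contra hqT
  choose s hs t ht hst using fun p : T => exists_mul_eq_zero hT hgen p.2 hqT
  obtain ⟨F, hF⟩ := hT.isCompact.elim_finite_subcover (fun p : T => (basicOpen (s p) : Set (PrimeSpectrum A)))
    (fun p => (basicOpen (s p)).2) fun p hp => Set.mem_iUnion.2 ⟨⟨p, hp⟩, hs ⟨p, hp⟩⟩
  have hmem : ∏ p ∈ F, t p ∈ K T := fun p hp => by
    obtain ⟨p', hp', hsp⟩ := Set.mem_iUnion₂.1 (hF hp)
    refine ⟨s p', hsp, ?_⟩
    obtain ⟨c, hc⟩ := Finset.dvd_prod_of_mem t hp'
    rw [hc, ← mul_assoc, hst, zero_mul]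
  obtain ⟨p', -, h⟩ := (q.2.prod_mem_iff).1 (hq hmem)
  exact ht p' h

theorem pure_K (hT : IsClosed T) (hgen : StableUnderGeneralization T) : (K T).Pure := by
  refine Ideal.Pure.of_inf_eq_mul _ fun J _ => le_antisymm (fun x hx => ?_) Ideal.mul_le_inf
  have htop : (Submodule.span A {x}).annihilator ⊔ K T = ⊤ := by
    by_contra h
    obtain ⟨m, hm, hle⟩ := Ideal.exists_le_maximal _ h
    have hmT : (⟨m, hm.isPrime⟩ : PrimeSpectrum A) ∈ T := by
      rw [← zeroLocus_K hT hgen]
      exact fun a ha => hle (Ideal.mem_sup_right ha)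
    obtain ⟨s, hs, hsx⟩ := hx.1 _ hmT
    exact hs (hle (Ideal.mem_sup_left ((Submodule.mem_annihilator_span_singleton x s).2 hsx)))
  obtain ⟨a, ha, y, hy, hay⟩ := Submodule.mem_sup.1 ((Ideal.eq_top_iff_one _).1 htop)
  have e : x = y * x := by
    have := (Submodule.mem_annihilator_span_singleton x a).1 ha
    rw [smul_eq_mul] at this
    linear_combination -x * hay + this
  rw [e]
  exact Ideal.mul_mem_mul hy hx.2

/-- A pure ideal consists of elements vanishing near its zero locus. -/
theorem le_K_of_pure (I : Ideal A) [I.Pure] : I ≤ K (zeroLocus (I : Set A)) := fun x hx p hp => by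
  obtain ⟨y, hy, hxy⟩ := Ideal.exists_eq_mul_of_pure hx
  refine ⟨1 - y, fun h => p.2.one_notMem ?_, by linear_combination hxy⟩
  rw [← sub_add_cancel (1 : A) y]
  exact add_mem h (hp hy)

/-- Clearing the denominators of a vanishing away from `f = 0`. -/
theorem exists_pow_mul_mem (hT : IsClosed T) (hgen : StableUnderGeneralization T) {f b : A}
    (h : ∀ p ∈ T, f ∉ p.asIdeal → ∃ s ∉ p.asIdeal, s * b = 0) : ∃ M : ℕ, f ^ M * b ∈ K T := by
  have key : ∀ p : T, ∃ s ∉ p.1.asIdeal, ∃ m : ℕ, s * (f ^ m * b) = 0 := fun p => by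
    by_contra hc
    push Not at hc
    obtain ⟨r, hr, hJr, hrd⟩ := Ideal.exists_le_prime_disjoint (Submodule.span A {b}).annihilator
      (p.1.asIdeal.primeCompl ⊔ Submonoid.powers f) (by
        rw [Set.disjoint_left]
        intro x hx hx'
        obtain ⟨s, hs, _, ⟨m, rfl⟩, rfl⟩ := Submonoid.mem_sup.1 hx'
        refine hc s hs m ?_
        have := (Submodule.mem_annihilator_span_singleton b _).1 hx
        rwa [smul_eq_mul, mul_assoc] at this)
    have hrp : r ≤ p.1.asIdeal := fun x hx => by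
      by_contra h'
      exact Set.disjoint_left.1 hrd hx (le_sup_left (b := Submonoid.powers f) (show x ∈ p.1.asIdeal.primeCompl from h'))
    have hf : f ∉ r := fun hx =>
      Set.disjoint_left.1 hrd hx (le_sup_right (a := p.1.asIdeal.primeCompl) (Submonoid.mem_powers f))
    obtain ⟨s, hs, hsb⟩ := h ⟨r, hr⟩ (hgen ((le_iff_specializes _ p.1).1 hrp) p.2) hf
    exact hs (hJr ((Submodule.mem_annihilator_span_singleton b s).2 hsb))
  choose s hs m hm using key
  obtain ⟨F, hF⟩ := hT.isCompact.elim_finite_subcover (fun p : T => (basicOpen (s p) : Set (PrimeSpectrum A)))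
    (fun p => (basicOpen (s p)).2) fun p hp => Set.mem_iUnion.2 ⟨⟨p, hp⟩, hs ⟨p, hp⟩⟩
  refine ⟨F.sup m, fun p hp => ?_⟩
  obtain ⟨p', hp', hsp⟩ := Set.mem_iUnion₂.1 (hF hp)
  refine ⟨s p', hsp, ?_⟩
  rw [← Nat.add_sub_cancel' (Finset.le_sup (f := m) hp'), pow_add]
  linear_combination f ^ (F.sup m - m p') * hm p'

/-- Compatibility with localization away from an element. -/
theorem map_K (hT : IsClosed T) (hgen : StableUnderGeneralization T) (f : A) (B : Type u) [CommRing B]
    [Algebra A B] [IsLocalization.Away f B] :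
    (K T).map (algebraMap A B) = K (PrimeSpectrum.comap (algebraMap A B) ⁻¹' T) := by
  refine le_antisymm (Ideal.map_le_iff_le_comap.2 fun a ha q hq => ?_) fun x hx => ?_
  · obtain ⟨s, hs, hsa⟩ := ha _ hq
    exact ⟨algebraMap A B s, hs, by rw [← map_mul, hsa, map_zero]⟩
  obtain ⟨⟨b, ⟨_, n, rfl⟩⟩, hbx⟩ := IsLocalization.surj (Submonoid.powers f) x
  simp only at hbx
  have hu : IsUnit (algebraMap A B (f ^ n)) :=
    IsLocalization.map_units B (⟨f ^ n, n, rfl⟩ : Submonoid.powers f)
  obtain ⟨M, hM⟩ := exists_pow_mul_mem (b := b) (f := f) hT hgen fun p hp hf => by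
    have hp' : p ∈ Set.range (PrimeSpectrum.comap (algebraMap A B)) := by
      rw [localization_away_comap_range B f]
      exact hf
    obtain ⟨q, rfl⟩ := hp'
    obtain ⟨s', hs', hsx⟩ := hx q hp
    obtain ⟨⟨s, ⟨_, j, rfl⟩⟩, hss⟩ := IsLocalization.surj (Submonoid.powers f) s'
    simp only at hss
    have hz : algebraMap A B (s * b) = algebraMap A B 0 := by
      rw [map_mul, map_zero, ← hss, ← hbx]
      linear_combination algebraMap A B (f ^ j) * algebraMap A B (f ^ n) * hsx
    obtain ⟨⟨_, i, rfl⟩, hi⟩ := (IsLocalization.eq_iff_exists (Submonoid.powers f) B).1 hz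
    simp only [mul_zero] at hi
    refine ⟨f ^ i * s, fun h => ?_, by linear_combination hi⟩
    rcases (PrimeSpectrum.comap (algebraMap A B) q).2.mem_or_mem h with h | h
    · exact hf ((PrimeSpectrum.comap (algebraMap A B) q).2.mem_of_pow_mem _ h)
    · have h1 : s' * algebraMap A B (f ^ j) ∈ q.asIdeal := hss ▸ h
      rcases q.2.mem_or_mem h1 with h2 | h2
      · exact hs' h2
      · exact q.2.ne_top (Ideal.eq_top_of_isUnit_mem _ h2
          (IsLocalization.map_units B (⟨f ^ j, j, rfl⟩ : Submonoid.powers f)))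
  have h3 := Ideal.mem_map_of_mem (algebraMap A B) hM
  rw [map_mul, map_pow, ← hbx] at h3
  have hu' : IsUnit (algebraMap A B f ^ M) :=
    (IsLocalization.Away.algebraMap_isUnit f).pow M
  exact (Ideal.mul_unit_mem_iff_mem _ hu).1 ((Ideal.unit_mul_mem_iff_mem _ hu').1 h3)

end GrothLib.PureIdeal9
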