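import Groth.Agent.Lib.PureIdeal9.Scheme
import Groth.Agent.Lib.LocFree8.Basic
import Groth.Agent.Lib.QCoh.Pieces
import Mathlib.RingTheory.Flat.Localization
import Mathlib.RingTheory.LocalRing.Module

/-!
# Finite type flat modules are finite locally free iff closed generalization-stable sets are open
-/

set_option autoImplicit false
set_option backward.isDefEq.respectTransparency false

universe u

open CategoryTheory AlgebraicGeometry TopologicalSpace Topology Opposite

noncomputable section

namespace GrothLib.PureIdeal9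

open LocFree8 (fibRank)

variable {X : Scheme.{u}}

section rank

variable (M : X.Modules) [M.IsQuasicoherent] (hM : CohB1.IsFT M) (hflat : FlatMod.IsFlat M)
include hM hflat

theorem free_stalk (x : X) : Module.Free (X.presheaf.stalk x) (M.presheaf.stalk x) := by
  haveI : Module.Finite (X.presheaf.stalk x) (M.presheaf.stalk x) :=
    QCoh.stalk_finite M ⟨‹M.IsQuasicoherent›, hM⟩ x
  haveI : Module.Flat (X.presheaf.stalk x) (M.presheaf.stalk x) := hflat x
  exact Module.free_of_flat_of_isLocalRing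

theorem rank_le_of_surjective {y : X} {n : ℕ} {U : X.Opens} (hy : y ∈ U) (s : Fin n → Γ(M, U))
    (h : Function.Surjective (Ref1.stalkComb s y hy)) : fibRank M y ≤ n := by
  haveI := free_stalk M hM hflat y
  rw [LocFree8.fibRank_of_free]
  refine ((LinearMap.range_eq_top.2 h ▸ LinearMap.finrank_range_le (Ref1.stalkComb s y hy)).trans' ?_).trans_eq
    (Module.finrank_fin_fun _)
  rw [finrank_top]

theorem isClosed_rank_ge (n : ℕ) : IsClosed {x : X | n ≤ fibRank M x} := by
  refine ⟨isOpen_iff_forall_mem_open.2 fun x hx => ?_⟩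
  obtain ⟨U, hxU, s, hs⟩ := LocFree8.exists_spanning_nhd M hM x
  refine ⟨U, fun y hy h => hx ?_, U.2, hxU⟩
  exact le_trans (show n ≤ fibRank M y from h) (rank_le_of_surjective M hM hflat hy s (hs y hy))

theorem rank_eq_of_specializes {x y : X} (h : y ⤳ x) : fibRank M y = fibRank M x := by
  classical
  obtain ⟨U₀, hxU₀, s₀, hs₀⟩ := LocFree8.exists_spanning_nhd M hM x
  obtain ⟨U, hU, hxU, hUU₀⟩ := exists_isAffineOpen_mem_and_subset hxU₀
  have hyU : y ∈ U := h.mem_open U.2 hxU
  let s : Fin (fibRank M x) → Γ(M, U) := fun i => M.presheaf.map (homOfLE hUU₀).op (s₀ i)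
  have hcomb : ∀ (z : X) (hz : z ∈ U), Ref1.stalkComb s z hz = Ref1.stalkComb s₀ z (hUU₀ hz) := fun z hz => by
    unfold Ref1.stalkComb
    congr 1
    funext i
    exact TopCat.Presheaf.germ_res_apply M.presheaf _ z hz (s₀ i)
  have hsx : Function.Bijective (Ref1.stalkComb s x hxU) := by
    have hsurj : Function.Surjective (Ref1.stalkComb s x hxU) := by rw [hcomb]; exact hs₀ x (hUU₀ hxU)
    haveI := free_stalk M hM hflat x
    haveI : Module.Finite (X.presheaf.stalk x) (M.presheaf.stalk x) :=
      QCoh.stalk_finite M ⟨‹M.IsQuasicoherent›, hM⟩ x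
    let ε : M.presheaf.stalk x ≃ₗ[X.presheaf.stalk x] (Fin (fibRank M x) → X.presheaf.stalk x) :=
      (Module.finBasisOfFinrankEq _ _ (LocFree8.fibRank_of_free M x).symm).equivFun
    have hinj := OrzechProperty.injective_of_surjective_endomorphism (ε.toLinearMap ∘ₗ Ref1.stalkComb s x hxU)
      (ε.surjective.comp hsurj)
    exact ⟨fun a b h => hinj (congrArg ε h), hsurj⟩
  have hsy : Function.Bijective (Ref1.stalkComb s y hyU) := by
    refine ⟨(injective_iff_map_eq_zero _).2 fun a ha => ?_, by rw [hcomb]; exact hs₀ y (hUU₀ hyU)⟩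
    obtain ⟨d, b, hd, hb⟩ := FlatFP.exists_common_denominator hU hyU (fun i : ULift.{u} (Fin (fibRank M x)) => a i.down)
    let b' : Fin (fibRank M x) → Γ(X, U) := fun i => b ⟨i⟩
    have hb' : ∀ i, X.presheaf.germ U y hyU (b' i) = X.presheaf.germ U y hyU d * a i := fun i => hb ⟨i⟩
    have h0 : M.presheaf.germ U y hyU (∑ i, b' i • M.presheaf.map (homOfLE le_rfl).op (s i)) = 0 := by
      rw [Ref1.germ_comb, show (fun i => X.presheaf.germ U y hyU (b' i)) = X.presheaf.germ U y hyU d • a from
        funext hb', map_smul, ha, smul_zero]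
    obtain ⟨c, hc, hcz⟩ := (WeakAss.germ_eq_zero_iff hU hyU _).1 h0
    -- at `x` the coefficients vanish, hence on a neighbourhood
    have h1 : ∀ i, X.presheaf.germ U x hxU (c * b' i) = 0 := by
      have h2 := congrArg (M.presheaf.germ U x hxU) hcz
      rw [map_zero, Finset.smul_sum] at h2
      simp only [← mul_smul] at h2
      rw [Ref1.germ_comb] at h2
      exact fun i => congrFun (hsx.1 (h2.trans (map_zero (Ref1.stalkComb s x hxU)).symm)) i
    have hu : IsUnit (X.presheaf.germ U y hyU c) :=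
      (Scheme.mem_basicOpen _ c y hyU).1 (WeakAss.notMem_primeAt_iff.1 hc)
    have hud : IsUnit (X.presheaf.germ U y hyU d) :=
      (Scheme.mem_basicOpen _ d y hyU).1 (WeakAss.notMem_primeAt_iff.1 hd)
    funext i
    obtain ⟨W, hxW, i₁, i₂, e⟩ := TopCat.Presheaf.germ_eq X.presheaf x hxU hxU (c * b' i) 0
      ((h1 i).trans (map_zero _).symm)
    have h3 := congrArg (X.presheaf.germ W y (h.mem_open W.2 hxW)) e
    rw [TopCat.Presheaf.germ_res_apply, TopCat.Presheaf.germ_res_apply, map_zero, map_mul, hb'] at h3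
    exact (hud.mul_right_eq_zero).1 ((hu.mul_right_eq_zero).1 h3)
  haveI := free_stalk M hM hflat y
  rw [LocFree8.fibRank_of_free M y, ← (LinearEquiv.ofBijective _ hsy).finrank_eq, Module.finrank_fin_fun]

theorem isFinLocFree_of_open (hopen : ∀ Z : Set X, IsClosed Z → StableUnderGeneralization Z → IsOpen Z) :
    FlatMod.IsFinLocFree M := by
  refine LocFree8.isFinLocFree_of_free_of_locallyConstant M hM (free_stalk M hM hflat)
    (IsLocallyConstant.iff_isOpen_fiber.2 fun n => ?_)
  have hge : ∀ m, IsClosed {x : X | m ≤ fibRank M x} ∧ IsOpen {x : X | m ≤ fibRank M x} := fun m =>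
    ⟨isClosed_rank_ge M hM hflat m, hopen _ (isClosed_rank_ge M hM hflat m) fun a b hab hb => by
      show m ≤ fibRank M b
      rw [rank_eq_of_specializes M hM hflat hab]
      exact hb⟩
  have e : fibRank M ⁻¹' {n} = {x : X | n ≤ fibRank M x} ∩ {x : X | n + 1 ≤ fibRank M x}ᶜ := by
    ext x
    simp only [Set.mem_preimage, Set.mem_singleton_iff, Set.mem_inter_iff, Set.mem_compl_iff, Set.mem_setOf_eq]
    omega
  rw [e]
  exact (hge n).2.inter (hge (n + 1)).1.isOpen_compl

end rank

section witness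

variable (I : X.IdealSheafData)

/-- The structure sheaf of a closed subscheme, on `X`. -/
abbrev qmod : X.Modules := QCoh.pushUnit I.subschemeι

instance : (qmod I).IsQuasicoherent := by
  haveI := Cohom.isQuasicoherent_structureModule I.subscheme
  exact QCoh.isQuasicoherent_pushforward I.subschemeι (Coh.structureModule I.subscheme)

/-- The sections over an affine open are the quotient ring. -/
def sectionsMk (U : X.affineOpens) : Γ(X, U.1) →ₗ[Γ(X, U.1)] Γ(qmod I, U.1) :=
  LinearMap.toSpanSingleton Γ(X, U.1) Γ(qmod I, U.1) (1 : Γ(I.subscheme, I.subschemeι ⁻¹ᵁ U.1))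

theorem sectionsMk_apply (U : X.affineOpens) (a : Γ(X, U.1)) :
    (show Γ(I.subscheme, I.subschemeι ⁻¹ᵁ U.1) from sectionsMk I U a) = (I.subschemeι.app U.1).hom a := by
  change (I.subschemeι.app U.1).hom a * (1 : Γ(I.subscheme, I.subschemeι ⁻¹ᵁ U.1)) = _
  exact mul_one _

theorem sectionsMk_surjective (U : X.affineOpens) : Function.Surjective (sectionsMk I U) := fun m => by
  obtain ⟨a, ha⟩ := I.subschemeι_app_surjective U (show Γ(I.subscheme, I.subschemeι ⁻¹ᵁ U.1) from m)
  exact ⟨a, (sectionsMk_apply I U a).trans ha⟩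

theorem ker_sectionsMk (U : X.affineOpens) : LinearMap.ker (sectionsMk I U) = I.ideal U := by
  ext a
  rw [← I.ker_subschemeι_app U, RingHom.mem_ker, LinearMap.mem_ker]
  rw [← sectionsMk_apply I U a]

theorem isFT_qmod : CohB1.IsFT (qmod I) :=
  (QCoh.isFiniteType_iff_moduleFinite _).2 fun U hU =>
    Module.Finite.of_surjective (sectionsMk I ⟨U, hU⟩) (sectionsMk_surjective I ⟨U, hU⟩)

theorem isFlat_qmod (hI : Flat I.subschemeι) : FlatMod.IsFlat (qmod I) := fun x => by
  obtain ⟨U, hU, hxU, -⟩ := exists_isAffineOpen_mem_and_subset (Opens.mem_top x)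
  haveI := (flat_iff I).1 hI ⟨U, hU⟩
  haveI : Module.Flat Γ(X, U) Γ(qmod I, U) :=
    Module.Flat.of_linearEquiv ((Submodule.quotEquivOfEq _ _ (ker_sectionsMk I ⟨U, hU⟩).symm).trans
      ((sectionsMk I ⟨U, hU⟩).quotKerEquivOfSurjective (sectionsMk_surjective I ⟨U, hU⟩))).symm
  letI := X.presheaf.algebra_section_stalk ⟨x, hxU⟩
  haveI := FlatFP.isLocalization_stalk_primeAt hU hxU
  letI : Module Γ(X, U) ((qmod I).presheaf.stalk x) := Module.compHom _ (X.presheaf.germ U x hxU).hom
  haveI : IsScalarTower Γ(X, U) (X.presheaf.stalk x) ((qmod I).presheaf.stalk x) :=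
    IsScalarTower.of_algebraMap_smul fun _ _ => rfl
  obtain ⟨g, hg, -⟩ := FlatFP.isLocalizedModule_germ (F := qmod I) hU hxU
  exact Module.Flat.of_isLocalizedModule (X.presheaf.stalk x) (WeakAss.primeAt x hxU).primeCompl g

theorem nontrivial_stalk_iff (x : X) : Nontrivial ((qmod I).presheaf.stalk x) ↔ x ∈ I.support := by
  constructor
  · intro h
    by_contra hx
    refine (not_subsingleton ((qmod I).presheaf.stalk x)) (QCoh.stalk_subsingleton_of_notMem fun hs => hx ?_)
    have := QCoh.support_pushforward_subset_range I.subschemeι (Coh.structureModule I.subscheme) hs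
    rwa [I.range_subschemeι] at this
  · intro hx
    obtain ⟨U, hU, hxU, -⟩ := exists_isAffineOpen_mem_and_subset (Opens.mem_top x)
    refine nontrivial_of_ne ((qmod I).presheaf.germ U x hxU (sectionsMk I ⟨U, hU⟩ 1)) 0 fun h0 => ?_
    obtain ⟨c, hc, hcz⟩ := (WeakAss.germ_eq_zero_iff hU hxU _).1 h0
    rw [← map_smul, smul_eq_mul, mul_one] at hcz
    have hcI : c ∈ I.ideal ⟨U, hU⟩ := by rw [← ker_sectionsMk I ⟨U, hU⟩]; exact hcz
    have := (I.mem_support_iff_of_mem (U := ⟨U, hU⟩) hxU).1 hx
    rw [Scheme.mem_zeroLocus_iff] at this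
    exact this c hcI (WeakAss.notMem_primeAt_iff.1 hc)

theorem isOpen_support (hI : Flat I.subschemeι) (h : FlatMod.IsFinLocFree (qmod I)) :
    IsOpen (I.support : Set X) := by
  have hc := (LocFree8.isLocallyConstant_fibRank (qmod I) h) {0}ᶜ
  have e : (fibRank (qmod I) ⁻¹' {0}ᶜ : Set X) = (I.support : Set X) := by
    ext x
    haveI : Module.Finite (X.presheaf.stalk x) ((qmod I).presheaf.stalk x) :=
      QCoh.stalk_finite _ ⟨inferInstance, isFT_qmod I⟩ x
    haveI := free_stalk (qmod I) (isFT_qmod I) (isFlat_qmod I hI) x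
    rw [Set.mem_preimage, Set.mem_compl_singleton_iff, LocFree8.fibRank_of_free, SetLike.mem_coe,
      ← nontrivial_stalk_iff]
    refine ⟨fun h0 => Module.nontrivial_of_finrank_pos (Nat.pos_of_ne_zero h0), fun hn h0 => ?_⟩
    exact not_subsingleton ((qmod I).presheaf.stalk x)
      (Module.finBasisOfFinrankEq (X.presheaf.stalk x) _ h0).equivFun.toEquiv.subsingleton
  rwa [e] at hc

theorem isOpen_of_forall_isFinLocFree
    (h : ∀ F : X.Modules, Coh.IsQCoh F → CohB1.IsFT F → FlatMod.IsFlat F → FlatMod.IsFinLocFree F) {Z : Set X}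
    (hZ : IsClosed Z) (hgen : StableUnderGeneralization Z) : IsOpen Z := by
  let I := pureIdeal ⟨Z, hZ⟩ hgen
  have hI : Flat I.subschemeι := flat_pureIdeal ⟨Z, hZ⟩ hgen
  exact isOpen_support I hI (h _ inferInstance (isFT_qmod I) (isFlat_qmod I hI))

end witness

end GrothLib.PureIdeal9
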