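import Groth.Agent.Lib.PureIdeal9.Algebra
import Mathlib.AlgebraicGeometry.Morphisms.Flat
import Mathlib.AlgebraicGeometry.Morphisms.UniversallyOpen
import Mathlib.AlgebraicGeometry.Morphisms.ClosedImmersion

/-!
# Flat closed subschemes and closed sets stable under generalization
-/

set_option autoImplicit false
set_option backward.isDefEq.respectTransparency false

universe u

open CategoryTheory AlgebraicGeometry TopologicalSpace Topology Opposite

noncomputable section

namespace GrothLib.PureIdeal9

variable {X : Scheme.{u}}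

/-- The part of `Z` in the spectrum of an affine open. -/
abbrev part (Z : Set X) (U : X.affineOpens) : Set (PrimeSpectrum Γ(X, U.1)) := U.2.fromSpec ⁻¹' Z

theorem isClosed_part (Z : Closeds X) (U : X.affineOpens) : IsClosed (part (Z : Set X) U) :=
  Z.isClosed.preimage U.2.fromSpec.continuous

theorem gen_part {Z : Set X} (hgen : StableUnderGeneralization Z) (U : X.affineOpens) :
    StableUnderGeneralization (part Z U) := fun _ _ h hy =>
  hgen (h.map U.2.fromSpec.continuous) hy

/-- The ideal sheaf of elements vanishing in the local rings at the points of `Z`. -/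
def pureIdeal (Z : Closeds X) (hgen : StableUnderGeneralization (Z : Set X)) : X.IdealSheafData :=
  Scheme.IdealSheafData.mkOfMemSupportIff (fun U => K (part (Z : Set X) U))
    (fun U f => by
      letI : Algebra Γ(X, U.1) Γ(X, X.basicOpen f) :=
        (X.presheaf.map (homOfLE <| X.basicOpen_le f).op).hom.toAlgebra
      haveI : IsLocalization.Away f Γ(X, X.basicOpen f) := U.2.isLocalization_basicOpen f
      refine (map_K (isClosed_part Z U) (gen_part hgen U) f Γ(X, X.basicOpen f)).trans ?_
      refine congrArg K (Set.ext fun q => ?_)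
      show U.2.fromSpec _ ∈ (Z : Set X) ↔ (U.2.basicOpen f).fromSpec q ∈ (Z : Set X)
      rw [← U.2.map_fromSpec (U.2.basicOpen f) (homOfLE <| X.basicOpen_le f).op]
      rfl)
    (Z : Set X)
    (fun U x hx => by
      obtain ⟨q, rfl⟩ : x ∈ Set.range ⇑U.2.fromSpec := by rw [U.2.range_fromSpec]; exact hx
      have h1 : U.2.fromSpec q ∈ X.zeroLocus (U := U.1) (K (part (Z : Set X) U) : Set Γ(X, U.1)) ↔
          q ∈ PrimeSpectrum.zeroLocus (K (part (Z : Set X) U) : Set Γ(X, U.1)) := by
        rw [← U.2.fromSpec_preimage_zeroLocus]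
        rfl
      rw [h1, zeroLocus_K (isClosed_part Z U) (gen_part hgen U)]
      rfl)

theorem pureIdeal_ideal (Z : Closeds X) (hgen : StableUnderGeneralization (Z : Set X)) (U : X.affineOpens) :
    (pureIdeal Z hgen).ideal U = K (part (Z : Set X) U) := rfl

theorem support_pureIdeal (Z : Closeds X) (hgen : StableUnderGeneralization (Z : Set X)) :
    (pureIdeal Z hgen).support = Z := SetLike.coe_injective rfl

theorem flat_iff (I : X.IdealSheafData) : Flat I.subschemeι ↔ ∀ U : X.affineOpens, (I.ideal U).Pure := by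
  have key : ∀ U : X.affineOpens, (I.subschemeι.app U).hom.Flat ↔ (I.ideal U).Pure := fun U => by
    let φ := (I.subschemeι.app U).hom
    let e : (Γ(X, U.1) ⧸ I.ideal U) ≃+* Γ(I.subscheme, I.subschemeι ⁻¹ᵁ U.1) :=
      (Ideal.quotEquivOfEq (I.ker_subschemeι_app U).symm).trans
        (RingHom.quotientKerEquivOfSurjective (I.subschemeι_app_surjective U))
    have hφ : φ = e.toRingHom.comp (Ideal.Quotient.mk (I.ideal U)) := RingHom.ext fun a => rfl
    show φ.Flat ↔ _
    rw [hφ]
    constructor
    · intro h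
      letI : Algebra Γ(X, U.1) Γ(I.subscheme, I.subschemeι ⁻¹ᵁ U.1) :=
        (e.toRingHom.comp (Ideal.Quotient.mk (I.ideal U))).toAlgebra
      haveI : Module.Flat Γ(X, U.1) Γ(I.subscheme, I.subschemeι ⁻¹ᵁ U.1) := h
      exact Module.Flat.of_linearEquiv (AlgEquiv.ofRingEquiv (f := e) fun _ => rfl).toLinearEquiv
    · intro h
      letI : Algebra Γ(X, U.1) Γ(I.subscheme, I.subschemeι ⁻¹ᵁ U.1) :=
        (e.toRingHom.comp (Ideal.Quotient.mk (I.ideal U))).toAlgebra
      exact Module.Flat.of_linearEquiv (AlgEquiv.ofRingEquiv (f := e) fun _ => rfl).toLinearEquiv.symm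
  have hres : ∀ U : X.affineOpens, Flat (I.subschemeι ∣_ U.1) ↔ (I.subschemeι.app U).hom.Flat := fun U => by
    haveI : IsAffine U.1.toScheme := U.2
    haveI : IsAffine (I.subschemeι ⁻¹ᵁ U.1).toScheme := U.2.preimage I.subschemeι
    rw [HasRingHomProperty.iff_of_isAffine (P := @Flat), morphismRestrict_appTop]
    have hW : ∀ (W : X.Opens) (hW : U.1 = W),
        ((I.subschemeι.app W) ).hom.Flat ↔ (I.subschemeι.app U.1).hom.Flat := fun W hW => by subst hW; rfl
    exact (RingHom.Flat.respectsIso.cancel_right_isIso _ _).trans (hW _ U.1.ι_image_top.symm)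
  exact ⟨fun h U => (key U).1 ((hres U).1 (IsZariskiLocalAtTarget.restrict h U.1)),
    fun h => (IsZariskiLocalAtTarget.iff_of_iSup_eq_top (P := @Flat) (fun U : X.affineOpens => U.1)
      (iSup_affineOpens_eq_top X)).2 fun U => (hres U).2 ((key U).2 (h U))⟩

theorem flat_pureIdeal (Z : Closeds X) (hgen : StableUnderGeneralization (Z : Set X)) :
    Flat (pureIdeal Z hgen).subschemeι :=
  (flat_iff _).2 fun U => pure_K (isClosed_part Z U) (gen_part hgen U)

/-- A flat closed subscheme contains every morphism landing set theoretically in it. -/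
theorem le_ker {I : X.IdealSheafData} (hI : Flat I.subschemeι) {Y : Scheme.{u}} (g : Y ⟶ X)
    (hg : Set.range g ⊆ (I.support : Set X)) : I ≤ g.ker := by
  refine Scheme.IdealSheafData.le_ofIdeals_iff.2 fun U a ha => ?_
  haveI := (flat_iff I).1 hI U
  refine TopCat.Presheaf.section_ext Y.sheaf _ _ _ fun y hy => ?_
  show Y.presheaf.germ _ y hy ((g.app U.1).hom a) = Y.presheaf.germ _ y hy 0
  rw [map_zero]
  have hyU : g y ∈ (U.1 : Set X) := hy
  rw [← U.2.range_fromSpec] at hyU
  obtain ⟨q, hq⟩ := hyU
  have hqI : q ∈ PrimeSpectrum.zeroLocus (I.ideal U : Set Γ(X, U.1)) := by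
    rw [← U.2.fromSpec_preimage_zeroLocus]
    show U.2.fromSpec q ∈ X.zeroLocus (U := U.1) (I.ideal U : Set Γ(X, U.1))
    rw [hq]
    exact (I.mem_support_iff_of_mem hy).1 (hg ⟨y, rfl⟩)
  obtain ⟨s, hs, hsa⟩ := le_K_of_pure (I.ideal U) ha q hqI
  have hsU : g y ∈ X.basicOpen s := by
    rw [← hq]
    show q ∈ U.2.fromSpec ⁻¹ᵁ X.basicOpen s
    rw [U.2.fromSpec_preimage_basicOpen]
    exact hs
  have h2 : X.presheaf.germ U.1 (g y) hy a = 0 := by
    have hu : IsUnit (X.presheaf.germ U.1 (g y) hy s) := (Scheme.mem_basicOpen _ _ _ _).1 hsU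
    refine hu.mul_right_eq_zero.1 ?_
    rw [← map_mul, hsa, map_zero]
  have h3 := congrArg (g.stalkMap y).hom h2
  rw [map_zero] at h3
  exact (Scheme.Hom.germ_stalkMap_apply g U.1 y hy a).symm.trans h3

theorem bijOn_support :
    Set.BijOn (fun I : X.IdealSheafData => I.support) {I : X.IdealSheafData | Flat I.subschemeι}
      {Z : Closeds X | StableUnderGeneralization (Z : Set X)} := by
  refine ⟨fun I hI => ?_, fun I hI J hJ h => ?_, fun Z hZ => ⟨pureIdeal Z hZ, flat_pureIdeal Z hZ,
    support_pureIdeal Z hZ⟩⟩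
  · haveI : Flat I.subschemeι := hI
    show StableUnderGeneralization (I.support : Set X)
    rw [← I.range_subschemeι]
    exact (Flat.generalizingMap (f := I.subschemeι)).stableUnderGeneralization_range
  · have key : ∀ I J : X.IdealSheafData, Flat I.subschemeι → I.support = J.support → I ≤ J := fun I J hI h => by
      have := le_ker hI J.subschemeι (by rw [J.range_subschemeι, h])
      rwa [J.ker_subschemeι] at this
    exact le_antisymm (key I J hI h) (key J I hJ h.symm)

end GrothLib.PureIdeal9
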